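import Mathlib
import Cfsg.Prelude.Def_Classical
import Cfsg.Prelude.Def_ChevB2

set_option autoImplicit false

/-!
# Project B2ISO (S1083: `B₂(F) ≅ PΩ₅(F)` over every field with more than two elements): definitions

Same method as helper95's D4ISO (S1082).
`V = F⁵` with index set `I5 = Unit ⊕ (Fin 2 ⊕ Fin 2)` (`zI ↔ e_0`, `eI i ↔ e_i`, `fI i ↔ f_i`),
`Q(v) = v(e_0)² + Σ v(e_i) v(f_i)` (`= Cfsg.quadFormOdd 2 F`).
* `opp`: `e_0 ↦ e_0`, `e_i ↔ f_i`;  `IsHyp a`: `a ≠ e_0`.
* `Bf`: the polar form, `bv u`: the covector `B(·,u)`.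
* `TM u w`: the Siegel matrix `x ↦ x + B(x,u) w − B(x,w) u − Q(w) B(x,u) u`.
* root elements: `TM (eV a) (t • eV b)` with `IsHyp a`, `b ≠ a`, `b ≠ opp a`
  (`b` hyperbolic: long root elements `1 + t (E_{b a'} − E_{a b'})`; `b = e_0`: short root elements
  `1 + t (E_{0 a'} − 2 E_{a 0}) − t² E_{a a'}`).
* The module `L = Lie(Spin₅)` in the *tensor model*: pairs `(t, s)`, `t` a `5 × 5` matrix (a tensor in
  `V ⊗ V`, taken modulo symmetric matrices), `s` a scalar, subject to `β(t) = 2 s`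
  (`β(t) = tr(tᵀ (Nᵀ − N))`, `N = E_{00} + Σ E_{f_i e_i}`, `Q(u) = uᵀ N u`).  A matrix `g` acts by
  `(t, s) ↦ (g t gᵀ, s − tr(tᵀ (gᵀ N g − N)))`.
* `bT`: the Chevalley basis (`inl k ↦ h_{p_k}`, `inr r ↦ e_r`), `coordT`: the coordinates,
  `rhoM g`: the matrix of `g` on `L` in this basis.
-/

namespace Cfsg.Agent.Lib.Helper37.B2Iso

open Matrix

/-- index type of the natural module -/
abbrev I5 : Type := Unit ⊕ (Fin 2 ⊕ Fin 2)

/-- the index of `e_0` (the anisotropic vector) -/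
abbrev zI : I5 := Sum.inl ()
/-- the index of `e_i` -/
abbrev eI (i : Fin 2) : I5 := Sum.inr (Sum.inl i)
/-- the index of `f_i` -/
abbrev fI (i : Fin 2) : I5 := Sum.inr (Sum.inr i)

/-- the opposite index: `e_0 ↦ e_0`, `e_i ↔ f_i` -/
def opp : I5 → I5
  | Sum.inl _ => Sum.inl ()
  | Sum.inr x => Sum.inr (Sum.swap x)

@[simp] theorem opp_opp (a : I5) : opp (opp a) = a := by
  rcases a with a | a | a <;> rfl

/-- hyperbolic indices: all but `e_0` -/
def IsHyp (a : I5) : Prop := a ≠ zI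

instance (a : I5) : Decidable (IsHyp a) := by unfold IsHyp; infer_instance

/-- valid pairs `(a,b)` label the root elements `TM (eV a) (t • eV b)` -/
def Valid (a b : I5) : Prop := IsHyp a ∧ b ≠ a ∧ b ≠ opp a

instance (a b : I5) : Decidable (Valid a b) := by unfold Valid; infer_instance

/-- the orthogonal group `O₅(F)` as a matrix group -/
abbrev OG (F : Type*) [Field F] : Subgroup (GL I5 F) :=
  Cfsg.isometryGroup F (Cfsg.quadFormOdd 2 F)

section ring
variable {R : Type*} [CommRing R]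

/-- `Q(v) = v(e_0)² + Σ_i v(e_i) v(f_i)` over a commutative ring -/
def Qr (v : I5 → R) : R := v zI ^ 2 + ∑ i : Fin 2, v (eI i) * v (fI i)

/-- the polar form `B(x,y) = 2 x_0 y_0 + Σ_i (x(e_i) y(f_i) + x(f_i) y(e_i))` -/
def Bf (x y : I5 → R) : R := (∑ a : I5, x a * y (opp a)) + x zI * y zI

/-- the covector of `B(·,u)`: `B(x,u) = x ⬝ᵥ bv u` -/
def bv (u : I5 → R) : I5 → R := fun a => u (opp a) + if a = zI then u zI else 0

/-- the Siegel matrix `T_{u,w} : x ↦ x + B(x,u) w − B(x,w) u − Q(w) B(x,u) u` -/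
def TM (u w : I5 → R) : Matrix I5 I5 R :=
  1 + vecMulVec w (bv u) - vecMulVec u (bv w) - Qr w • vecMulVec u (bv u)

/-- `N = E_{00} + Σ_i E_{f_i e_i}`, so that `Q(u) = uᵀ N u` -/
def NM : Matrix I5 I5 R := Matrix.of fun a b =>
  match a, b with
  | Sum.inl _, Sum.inl _ => 1
  | Sum.inr (Sum.inr i), Sum.inr (Sum.inl j) => if i = j then 1 else 0
  | _, _ => 0

/-- the cocycle `Δ_g = gᵀ N g − N` -/
def Dl (g : Matrix I5 I5 R) : Matrix I5 I5 R := gᵀ * NM * g - NM

/-- the action of a matrix on the tensor model -/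
def actT (g : Matrix I5 I5 R) (p : Matrix I5 I5 R × R) : Matrix I5 I5 R × R :=
  (g * p.1 * gᵀ, p.2 - Matrix.trace (p.1ᵀ * Dl g))

/-- `β(t) = tr(tᵀ (Nᵀ − N))` -/
def betaT (t : Matrix I5 I5 R) : R := Matrix.trace (tᵀ * (NMᵀ - NM))

/-- the constraint defining `L` inside (tensors mod symmetric) × scalars -/
def InL (p : Matrix I5 I5 R × R) : Prop := betaT p.1 = 2 * p.2

/-- `g` preserves `Q` -/
def IsIsom (g : Matrix I5 I5 R) : Prop := ∀ x : I5 → R, Qr (g *ᵥ x) = Qr x

end ring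

/-- the standard basis vector `e_a` -/
def eV {R : Type*} [CommRing R] (a : I5) : I5 → R := Pi.single a 1

/-- decoding `0..4` as indices: `0 ↦ e_0`, `1 ↦ e_1 = eI 0`, `2 ↦ e_2 = eI 1`, `3 ↦ f_1 = fI 0`, `4 ↦ f_2 = fI 1` -/
def i5 (n : ℕ) : I5 :=
  if n = 0 then zI else if n = 1 then eI 0 else if n = 2 then eI 1 else if n = 3 then fI 0 else fI 1

/-- the basis tensor of the root `r` is `rootSg r • E_{rootA r, rootB r}` -/
def rootAList : List ℕ := [3, 0, 0, 3, 1, 0, 0, 1]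
def rootBList : List ℕ := [4, 3, 4, 2, 4, 2, 1, 2]
def rootSgList : List ℤ := [1, 1, -1, 1, -1, 1, -1, -1]
/-- the root element of the root `r` is `TM (eV (rootU r)) ((rootC r * t) • eV (rootW r))` -/
def rootUList : List ℕ := [3, 3, 4, 3, 1, 2, 1, 1]
def rootWList : List ℕ := [4, 0, 0, 2, 4, 0, 0, 2]
def rootCList : List ℤ := [-1, 1, -1, -1, 1, 1, -1, 1]

def rootA (r : Fin 8) : I5 := i5 (rootAList.getD r.val 0)
def rootB (r : Fin 8) : I5 := i5 (rootBList.getD r.val 0)
def rootSg (r : Fin 8) : ℤ := rootSgList.getD r.val 0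
def rootU (r : Fin 8) : I5 := i5 (rootUList.getD r.val 0)
def rootW (r : Fin 8) : I5 := i5 (rootWList.getD r.val 0)
def rootC (r : Fin 8) : ℤ := rootCList.getD r.val 0

section ring
variable {R : Type*} [CommRing R]

/-- the Chevalley basis of `L` in the tensor model: `h_{p_1} = 2 H_2 ↔ (2 E_{e_2 f_2}, 1)`,
`h_{p_2} = H_1 − H_2 ↔ (E_{e_1 f_1} − E_{e_2 f_2}, 0)`, `e_r ↔ (± E_{A_r B_r}, 0)` -/
def bT : Cfsg.Lie.chevB2.Idx → Matrix I5 I5 R × R
  | Sum.inl k =>
    if k.val = 0 then ((2 : R) • Matrix.single (eI 1) (fI 1) 1, 1)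
    else (Matrix.single (eI 0) (fI 0) 1 - Matrix.single (eI 1) (fI 1) 1, 0)
  | Sum.inr r => (((rootSg r : ℤ) : R) • Matrix.single (rootA r) (rootB r) 1, 0)

/-- the coordinates on `L` -/
def coordT (p : Matrix I5 I5 R × R) : Cfsg.Lie.chevB2.Idx → R
  | Sum.inl k =>
    if k.val = 0 then p.2
    else p.1 (eI 0) (fI 0) - p.1 (fI 0) (eI 0)
  | Sum.inr r => ((rootSg r : ℤ) : R) * (p.1 (rootA r) (rootB r) - p.1 (rootB r) (rootA r))

/-- the matrix of `g` acting on `L` in the Chevalley basis -/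
def rhoM (g : Matrix I5 I5 R) : Matrix Cfsg.Lie.chevB2.Idx Cfsg.Lie.chevB2.Idx R :=
  Matrix.of fun i j => coordT (actT g (bT j)) i

/-- the root element of the root `r` with parameter `t` -/
def genM (r : Fin 8) (t : R) : Matrix I5 I5 R :=
  TM (eV (rootU r)) ((((rootC r : ℤ) : R) * t) • eV (rootW r))

/-- first order part of the root element `TM (eV a) (t • eV b) = 1 + t • rA a b + t² • rB a b` -/
def rA (a b : I5) : Matrix I5 I5 R :=
  Matrix.single b (opp a) 1 - (if b = zI then (2 : R) else 1) • Matrix.single a (opp b) 1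

/-- second order part of the root element -/
def rB (a b : I5) : Matrix I5 I5 R :=
  if b = zI then - Matrix.single a (opp a) 1 else 0

/-- the coefficient operators of the action of `1 + τ A + τ² B` -/
def K1 (A B : Matrix I5 I5 R) (p : Matrix I5 I5 R × R) : Matrix I5 I5 R × R :=
  (A * p.1 + p.1 * Aᵀ, - Matrix.trace (p.1ᵀ * (Aᵀ * NM + NM * A)))

def K2 (A B : Matrix I5 I5 R) (p : Matrix I5 I5 R × R) : Matrix I5 I5 R × R :=
  (B * p.1 + p.1 * Bᵀ + A * p.1 * Aᵀ,
    - Matrix.trace (p.1ᵀ * (Bᵀ * NM + NM * B + Aᵀ * NM * A)))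

def K3 (A B : Matrix I5 I5 R) (p : Matrix I5 I5 R × R) : Matrix I5 I5 R × R :=
  (A * p.1 * Bᵀ + B * p.1 * Aᵀ, - Matrix.trace (p.1ᵀ * (Aᵀ * NM * B + Bᵀ * NM * A)))

def K4 (A B : Matrix I5 I5 R) (p : Matrix I5 I5 R × R) : Matrix I5 I5 R × R :=
  (B * p.1 * Bᵀ, - Matrix.trace (p.1ᵀ * (Bᵀ * NM * B)))

/-- base change of an element of the tensor model -/
def mapP {R' : Type*} [CommRing R'] (φ : R →+* R') (p : Matrix I5 I5 R × R) :
    Matrix I5 I5 R' × R' := (p.1.map φ, φ p.2)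

end ring

/-! ### Subgroups of `O₅(F)` -/

section groups
variable (F : Type*) [Field F]

/-- the subgroup of `O₅(F)` generated by the root elements -/
def E0 : Subgroup ↥(OG F) :=
  Subgroup.closure {g | ∃ a b, Valid a b ∧ ∃ t : F,
    ((g : GL I5 F) : Matrix I5 I5 F) = TM (eV a) (t • eV b)}

/-- the subgroup generated by all Siegel elements -/
def ES : Subgroup ↥(OG F) :=
  Subgroup.closure {g | ∃ u w : I5 → F, Qr u = 0 ∧ Bf u w = 0 ∧
    ((g : GL I5 F) : Matrix I5 I5 F) = TM u w}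

end groups

/-- the torus element `d(μ)`: `e_2 ↦ μ e_2`, `f_2 ↦ μ⁻¹ f_2` (`e_2 = eI 1`), all other basis vectors fixed -/
def dM {F : Type*} [Field F] (μ : F) : Matrix I5 I5 F :=
  Matrix.diagonal fun a => if a = eI 1 then μ else if a = fI 1 then μ⁻¹ else 1

/-- the torus element `e_a ↦ λ e_a`, `e_{a'} ↦ λ⁻¹ e_{a'}` -/
def hM {F : Type*} [Field F] (a : I5) (μ : F) : Matrix I5 I5 F :=
  Matrix.diagonal fun c => if c = a then μ else if c = opp a then μ⁻¹ else 1

/-- the swap `e_2 ↔ f_2` -/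
def sM {R : Type*} [CommRing R] : Matrix I5 I5 R :=
  Matrix.of fun a b =>
    if a = eI 1 then (if b = fI 1 then 1 else 0)
    else if a = fI 1 then (if b = eI 1 then 1 else 0)
    else if a = b then 1 else 0

/-- the reflection `e_0 ↦ −e_0` -/
def rM {R : Type*} [CommRing R] : Matrix I5 I5 R :=
  Matrix.diagonal fun a => if a = zI then -1 else 1

/-! ### integer tables -/

/-- integer coefficient of `τ^k` (`k = 1..4`) in the entry `(i,j)` of `ρ(TM (eV a) (τ • eV b))` -/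
def k1Z (a b : I5) (i j : Cfsg.Lie.chevB2.Idx) : ℤ :=
  coordT (K1 (rA a b : Matrix I5 I5 ℤ) (rB a b) (bT j)) i
def k2Z (a b : I5) (i j : Cfsg.Lie.chevB2.Idx) : ℤ :=
  coordT (K2 (rA a b : Matrix I5 I5 ℤ) (rB a b) (bT j)) i
def k3Z (a b : I5) (i j : Cfsg.Lie.chevB2.Idx) : ℤ :=
  coordT (K3 (rA a b : Matrix I5 I5 ℤ) (rB a b) (bT j)) i
def k4Z (a b : I5) (i j : Cfsg.Lie.chevB2.Idx) : ℤ :=
  coordT (K4 (rA a b : Matrix I5 I5 ℤ) (rB a b) (bT j)) i

open Cfsg.Lie in
/-- coefficient of `t` in the entry `(row, col)` of `chevB2.xMat F r t` -/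
def m1Z (r : Fin chevB2.nroots) (row col : chevB2.Idx) : ℤ :=
  match col with
  | Sum.inl i =>
    (match row with
     | Sum.inl _ => 0
     | Sum.inr u => if u.val = r.val then -((chevB2.cartanSR.getD i.val #[]).getD r.val 0) else 0)
  | Sum.inr s =>
    if s.val = r.val then 0
    else if s.val = chevB2.negIdx.getD r.val 0 then
      (match row with
       | Sum.inl i => (chevB2.coroot.getD r.val #[]).getD i.val 0
       | Sum.inr _ => 0)
    else
      (match row with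
       | Sum.inl _ => 0
       | Sum.inr u =>
         (((chevB2.chainCoeff r.val s.val u.val).filter fun km => km.1 = 1).map fun km => km.2).sum)

open Cfsg.Lie in
/-- coefficient of `t ^ 2` in the entry `(row, col)` of `chevB2.xMat F r t` -/
def m2Z (r : Fin chevB2.nroots) (row col : chevB2.Idx) : ℤ :=
  match col with
  | Sum.inl _ => 0
  | Sum.inr s =>
    if s.val = r.val then 0
    else if s.val = chevB2.negIdx.getD r.val 0 then
      (match row with
       | Sum.inl _ => 0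
       | Sum.inr u => if u.val = s.val then 0 else if u.val = r.val then -1 else 0)
    else
      (match row with
       | Sum.inl _ => 0
       | Sum.inr u =>
         (((chevB2.chainCoeff r.val s.val u.val).filter fun km => km.1 = 2).map fun km => km.2).sum)

end Cfsg.Agent.Lib.Helper37.B2Iso
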