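import Mathlib
import Cfsg.Agent.Lib.Helper37.B2Iso.Defs
import Cfsg.Agent.Lib.Helper66.B2IsoGSiegel
import Cfsg.Agent.Lib.Helper13.B2IsoGRoot
import Cfsg.Agent.Lib.Helper13.B2IsoGMem

set_option autoImplicit false

/-!
# B2ISO-[G-COMM] (hedge copy by helper37): root elements are commutators when `|F| > 2`
-/

namespace Cfsg.Agent.Lib.Helper37.B2Iso

open Matrix Cfsg.Lie
open scoped commutatorElement
open Cfsg.Agent.Lib.Helper66.B2Iso (TM_conj TM_scale TM_mul Qr_eV Bf_smul_right)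
open Cfsg.Agent.Lib.Helper13.B2Iso (hM_mul_hM hM_mulVec Qr_hM exists_hO exists_rootO OG_ext Bf_eV_eV)

variable {F : Type*} [Field F]

theorem h37_hM_mulVec_eV_self (a : I5) (ha : IsHyp a) (μ : F) :
    hM a μ *ᵥ (eV a : I5 → F) = μ • (eV a : I5 → F) := by
  rw [hM_mulVec]
  funext c
  by_cases hc : c = a
  · subst hc; simp [eV]
  · simp [eV, hc]

theorem h37_hM_mulVec_eV_other (a b : I5) (h : Valid a b) (μ t : F) :
    hM a μ *ᵥ (t • (eV b : I5 → F)) = t • (eV b : I5 → F) := by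
  rw [hM_mulVec]
  funext c
  by_cases hc : c = b
  · subst hc
    have h1 : c ≠ a := h.2.1
    have h2 : c ≠ opp a := h.2.2
    simp [h1, h2]
  · simp [eV, hc]

theorem hM_conj (a b : I5) (h : Valid a b) (μ : F) (hμ : μ ≠ 0) (t : F) :
    hM a μ * TM (eV a) (t • eV b) * hM a μ⁻¹ = TM (eV a) ((μ * t) • eV b) := by
  rw [TM_conj (hM a μ) (hM a μ⁻¹) (Qr_hM a h.1 μ hμ) (hM_mul_hM a μ hμ),
    h37_hM_mulVec_eV_self a h.1, h37_hM_mulVec_eV_other a b h, TM_scale, smul_smul]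

theorem E0_le_commutator (hF : ∃ a : F, a ≠ 0 ∧ a ≠ 1) : E0 F ≤ commutator ↥(OG F) := by
  obtain ⟨l, hl0, hl1⟩ := hF
  have hl : l - 1 ≠ 0 := sub_ne_zero.2 hl1
  unfold E0
  rw [Subgroup.closure_le]
  rintro g ⟨a, b, hab, t, hg⟩
  obtain ⟨g₁, hg₁⟩ := exists_hO (F := F) a hab.1 l hl0
  obtain ⟨g₁', hg₁'⟩ := exists_hO (F := F) a hab.1 l⁻¹ (inv_ne_zero hl0)
  set s : F := t / (l - 1) with hs
  obtain ⟨g₂, hg₂⟩ := exists_rootO (F := F) a b hab s
  obtain ⟨g₂', hg₂'⟩ := exists_rootO (F := F) a b hab (-s)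
  have hu : Qr (eV a : I5 → F) = 0 := Qr_eV a hab.1
  have hb : ∀ c : F, Bf (eV a : I5 → F) (c • eV b) = 0 := fun c => by
    rw [Bf_smul_right, Bf_eV_eV a b hab, mul_zero]
  -- inverses
  have hinv1 : g₁⁻¹ = g₁' := by
    rw [inv_eq_iff_mul_eq_one]
    apply OG_ext
    simp only [Subgroup.coe_mul, Units.val_mul, Subgroup.coe_one, Units.val_one]
    rw [hg₁, hg₁']
    exact hM_mul_hM a l hl0
  have hinv2 : g₂⁻¹ = g₂' := by
    rw [inv_eq_iff_mul_eq_one]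
    apply OG_ext
    simp only [Subgroup.coe_mul, Units.val_mul, Subgroup.coe_one, Units.val_one]
    rw [hg₂, hg₂', TM_mul _ _ _ hu (hb _) (hb _), ← add_smul, add_neg_cancel, zero_smul]
    exact Cfsg.Agent.Lib.Helper66.B2Iso.TM_zero _
  have hcomm : ⁅g₁, g₂⁆ = g := by
    rw [commutatorElement_def, hinv1, hinv2]
    apply OG_ext
    simp only [Subgroup.coe_mul, Units.val_mul]
    rw [hg₁, hg₁', hg₂, hg₂', hg, hM_conj a b hab l hl0, TM_mul _ _ _ hu (hb _) (hb _), ← add_smul]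
    congr 2
    rw [hs]
    field_simp
    ring
  rw [← hcomm]
  exact Subgroup.commutator_mem_commutator (Subgroup.mem_top _) (Subgroup.mem_top _)

end Cfsg.Agent.Lib.Helper37.B2Iso
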