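import Mathlib
import Cfsg.Agent.Lib.Helper37.B2Iso.Defs

set_option autoImplicit false

/-! B2ISO [R-CHK]: the integer check `ρ(genM r) = xMat r` root by root (kernel evaluation). -/

namespace Cfsg.Agent.Lib.Helper37.B2Iso

open Cfsg.Lie

set_option maxRecDepth 100000 in
theorem chk_0 : Valid (rootU (0 : Fin 8)) (rootW (0 : Fin 8)) ∧ ∀ i j : chevB2.Idx,
    rootC (0 : Fin 8) * k1Z (rootU (0 : Fin 8)) (rootW (0 : Fin 8)) i j = m1Z (0 : Fin 8) i j ∧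
    k2Z (rootU (0 : Fin 8)) (rootW (0 : Fin 8)) i j = m2Z (0 : Fin 8) i j ∧
    rootC (0 : Fin 8) * k3Z (rootU (0 : Fin 8)) (rootW (0 : Fin 8)) i j = 0 ∧
    k4Z (rootU (0 : Fin 8)) (rootW (0 : Fin 8)) i j = 0 := by
  decide +kernel

set_option maxRecDepth 100000 in
theorem chk_1 : Valid (rootU (1 : Fin 8)) (rootW (1 : Fin 8)) ∧ ∀ i j : chevB2.Idx,
    rootC (1 : Fin 8) * k1Z (rootU (1 : Fin 8)) (rootW (1 : Fin 8)) i j = m1Z (1 : Fin 8) i j ∧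
    k2Z (rootU (1 : Fin 8)) (rootW (1 : Fin 8)) i j = m2Z (1 : Fin 8) i j ∧
    rootC (1 : Fin 8) * k3Z (rootU (1 : Fin 8)) (rootW (1 : Fin 8)) i j = 0 ∧
    k4Z (rootU (1 : Fin 8)) (rootW (1 : Fin 8)) i j = 0 := by
  decide +kernel

set_option maxRecDepth 100000 in
theorem chk_2 : Valid (rootU (2 : Fin 8)) (rootW (2 : Fin 8)) ∧ ∀ i j : chevB2.Idx,
    rootC (2 : Fin 8) * k1Z (rootU (2 : Fin 8)) (rootW (2 : Fin 8)) i j = m1Z (2 : Fin 8) i j ∧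
    k2Z (rootU (2 : Fin 8)) (rootW (2 : Fin 8)) i j = m2Z (2 : Fin 8) i j ∧
    rootC (2 : Fin 8) * k3Z (rootU (2 : Fin 8)) (rootW (2 : Fin 8)) i j = 0 ∧
    k4Z (rootU (2 : Fin 8)) (rootW (2 : Fin 8)) i j = 0 := by
  decide +kernel

set_option maxRecDepth 100000 in
theorem chk_3 : Valid (rootU (3 : Fin 8)) (rootW (3 : Fin 8)) ∧ ∀ i j : chevB2.Idx,
    rootC (3 : Fin 8) * k1Z (rootU (3 : Fin 8)) (rootW (3 : Fin 8)) i j = m1Z (3 : Fin 8) i j ∧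
    k2Z (rootU (3 : Fin 8)) (rootW (3 : Fin 8)) i j = m2Z (3 : Fin 8) i j ∧
    rootC (3 : Fin 8) * k3Z (rootU (3 : Fin 8)) (rootW (3 : Fin 8)) i j = 0 ∧
    k4Z (rootU (3 : Fin 8)) (rootW (3 : Fin 8)) i j = 0 := by
  decide +kernel

set_option maxRecDepth 100000 in
theorem chk_4 : Valid (rootU (4 : Fin 8)) (rootW (4 : Fin 8)) ∧ ∀ i j : chevB2.Idx,
    rootC (4 : Fin 8) * k1Z (rootU (4 : Fin 8)) (rootW (4 : Fin 8)) i j = m1Z (4 : Fin 8) i j ∧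
    k2Z (rootU (4 : Fin 8)) (rootW (4 : Fin 8)) i j = m2Z (4 : Fin 8) i j ∧
    rootC (4 : Fin 8) * k3Z (rootU (4 : Fin 8)) (rootW (4 : Fin 8)) i j = 0 ∧
    k4Z (rootU (4 : Fin 8)) (rootW (4 : Fin 8)) i j = 0 := by
  decide +kernel

set_option maxRecDepth 100000 in
theorem chk_5 : Valid (rootU (5 : Fin 8)) (rootW (5 : Fin 8)) ∧ ∀ i j : chevB2.Idx,
    rootC (5 : Fin 8) * k1Z (rootU (5 : Fin 8)) (rootW (5 : Fin 8)) i j = m1Z (5 : Fin 8) i j ∧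
    k2Z (rootU (5 : Fin 8)) (rootW (5 : Fin 8)) i j = m2Z (5 : Fin 8) i j ∧
    rootC (5 : Fin 8) * k3Z (rootU (5 : Fin 8)) (rootW (5 : Fin 8)) i j = 0 ∧
    k4Z (rootU (5 : Fin 8)) (rootW (5 : Fin 8)) i j = 0 := by
  decide +kernel

set_option maxRecDepth 100000 in
theorem chk_6 : Valid (rootU (6 : Fin 8)) (rootW (6 : Fin 8)) ∧ ∀ i j : chevB2.Idx,
    rootC (6 : Fin 8) * k1Z (rootU (6 : Fin 8)) (rootW (6 : Fin 8)) i j = m1Z (6 : Fin 8) i j ∧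
    k2Z (rootU (6 : Fin 8)) (rootW (6 : Fin 8)) i j = m2Z (6 : Fin 8) i j ∧
    rootC (6 : Fin 8) * k3Z (rootU (6 : Fin 8)) (rootW (6 : Fin 8)) i j = 0 ∧
    k4Z (rootU (6 : Fin 8)) (rootW (6 : Fin 8)) i j = 0 := by
  decide +kernel

set_option maxRecDepth 100000 in
theorem chk_7 : Valid (rootU (7 : Fin 8)) (rootW (7 : Fin 8)) ∧ ∀ i j : chevB2.Idx,
    rootC (7 : Fin 8) * k1Z (rootU (7 : Fin 8)) (rootW (7 : Fin 8)) i j = m1Z (7 : Fin 8) i j ∧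
    k2Z (rootU (7 : Fin 8)) (rootW (7 : Fin 8)) i j = m2Z (7 : Fin 8) i j ∧
    rootC (7 : Fin 8) * k3Z (rootU (7 : Fin 8)) (rootW (7 : Fin 8)) i j = 0 ∧
    k4Z (rootU (7 : Fin 8)) (rootW (7 : Fin 8)) i j = 0 := by
  decide +kernel

theorem chk (r : Fin 8) : Valid (rootU r) (rootW r) ∧ ∀ i j : chevB2.Idx,
    rootC r * k1Z (rootU r) (rootW r) i j = m1Z r i j ∧
    k2Z (rootU r) (rootW r) i j = m2Z r i j ∧
    rootC r * k3Z (rootU r) (rootW r) i j = 0 ∧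
    k4Z (rootU r) (rootW r) i j = 0 := by
  fin_cases r
  · exact chk_0
  · exact chk_1
  · exact chk_2
  · exact chk_3
  · exact chk_4
  · exact chk_5
  · exact chk_6
  · exact chk_7

theorem rootC_sq (r : Fin 8) : rootC r * rootC r = 1 := by
  fin_cases r <;> rfl

end Cfsg.Agent.Lib.Helper37.B2Iso
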