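import Mathlib
import Cfsg.Agent.Lib.Helper37.B2Iso.Defs
import Cfsg.Agent.Lib.Helper37.B2Iso.Chk
import Cfsg.Agent.Lib.Helper13.B2IsoGRoot
import Cfsg.Agent.Lib.Helper33.B2IsoRTab
import Cfsg.Agent.Lib.Helper66.B2IsoRNat
import Cfsg.Agent.Lib.Helper73.B2IsoRRoot

set_option autoImplicit false

/-!
# B2ISO-[R-MATCH]: the root elements act on `L` as the Chevalley generators `xMat r t`
-/

namespace Cfsg.Agent.Lib.Helper37.B2Iso

open Matrix Cfsg.Lie
open Cfsg.Agent.Lib.Helper73.B2Iso (rhoM_one_add)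
open Cfsg.Agent.Lib.Helper66.B2Iso (coord_K1_eq coord_K2_eq coord_K3_eq coord_K4_eq)
open Cfsg.Agent.Lib.Helper33.B2Iso (xMat_eq)
open Cfsg.Agent.Lib.Helper13.B2Iso (TM_eV_eq TM_eV_symm)

variable {F : Type*} [Field F]

theorem rootC_sq_cast (r : Fin 8) : ((rootC r : ℤ) : F) * ((rootC r : ℤ) : F) = 1 := by
  have := congrArg (Int.cast : ℤ → F) (rootC_sq r)
  simpa using this

/-- entries of `ρ` of an arbitrary root element -/
theorem rhoM_TM_entry (a b : I5) (h : Valid a b) (τ : F) (i j : chevB2.Idx) :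
    rhoM (TM (eV a) (τ • (eV b : I5 → F))) i j = (if i = j then 1 else 0)
      + τ * ((k1Z a b i j : ℤ) : F) + τ ^ 2 * ((k2Z a b i j : ℤ) : F)
      + τ ^ 3 * ((k3Z a b i j : ℤ) : F) + τ ^ 4 * ((k4Z a b i j : ℤ) : F) := by
  rw [TM_eV_eq a b h, rhoM_one_add, coord_K1_eq, coord_K2_eq, coord_K3_eq, coord_K4_eq]

theorem rhoM_root (r : Fin chevB2.nroots) (t : F) : rhoM (genM r t) = chevB2.xMat F r t := by
  ext i j
  obtain ⟨hv, h⟩ := chk r
  unfold genM
  rw [rhoM_TM_entry _ _ hv, xMat_eq]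
  obtain ⟨h1, h2, h3, h4⟩ := h i j
  have hs := rootC_sq_cast (F := F) r
  have e1 : ((rootC r : ℤ) : F) * ((k1Z (rootU r) (rootW r) i j : ℤ) : F) = ((m1Z r i j : ℤ) : F) := by
    rw [← h1]; push_cast; ring
  have e2 : ((k2Z (rootU r) (rootW r) i j : ℤ) : F) = ((m2Z r i j : ℤ) : F) := by rw [h2]
  have e3 : ((rootC r : ℤ) : F) * ((k3Z (rootU r) (rootW r) i j : ℤ) : F) = 0 := by
    have := congrArg (Int.cast : ℤ → F) h3
    push_cast at this
    exact this
  have e4 : ((k4Z (rootU r) (rootW r) i j : ℤ) : F) = 0 := by rw [h4]; simp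
  rw [e4, ← e1, ← e2]
  set c : F := ((rootC r : ℤ) : F)
  set k1 : F := ((k1Z (rootU r) (rootW r) i j : ℤ) : F)
  set k2 : F := ((k2Z (rootU r) (rootW r) i j : ℤ) : F)
  set k3 : F := ((k3Z (rootU r) (rootW r) i j : ℤ) : F)
  linear_combination (t ^ 2 * k2 + c * t ^ 3 * k3) * hs + (t ^ 3) * e3

set_option maxRecDepth 100000 in
set_option synthInstance.maxSize 2000 in
set_option synthInstance.maxHeartbeats 200000 in
/-- every valid pair is a root pair or (both hyperbolic) the swap of a root pair -/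
theorem valid_cases : ∀ (a b : I5), Valid a b →
    ∃ r : Fin 8, (a = rootU r ∧ b = rootW r) ∨ (IsHyp b ∧ a = rootW r ∧ b = rootU r) := by
  decide +kernel

/-- the images of the root elements are Chevalley generators -/
theorem rhoM_TM_mem (a b : I5) (h : Valid a b) (t : F) :
    ∃ (r : Fin chevB2.nroots) (t' : F),
      rhoM (TM (eV a) (t • (eV b : I5 → F))) = chevB2.xMat F r t' := by
  have hs := fun r => rootC_sq_cast (F := F) r
  obtain ⟨r, hr | hr⟩ := valid_cases a b h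
  · obtain ⟨rfl, rfl⟩ := hr
    refine ⟨r, ((rootC r : ℤ) : F) * t, ?_⟩
    have h0 := rhoM_root (F := F) r (((rootC r : ℤ) : F) * t)
    rw [← h0]
    unfold genM
    congr 3
    linear_combination (-t) * hs r
  · obtain ⟨hb, rfl, rfl⟩ := hr
    rw [TM_eV_symm _ _ h hb]
    refine ⟨r, -(((rootC r : ℤ) : F) * t), ?_⟩
    have h0 := rhoM_root (F := F) r (-(((rootC r : ℤ) : F) * t))
    rw [← h0]
    unfold genM
    congr 3
    linear_combination (t) * hs r

theorem xMat_mem (r : Fin chevB2.nroots) (t : F) :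
    ∃ (a b : I5) (_ : Valid a b) (t' : F),
      chevB2.xMat F r t = rhoM (TM (eV a) (t' • (eV b : I5 → F))) :=
  ⟨rootU r, rootW r, (chk r).1, ((rootC r : ℤ) : F) * t, (rhoM_root r t).symm⟩

end Cfsg.Agent.Lib.Helper37.B2Iso
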