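import Mathlib
import Cfsg.Agent.Lib.Helper37.B2Iso.Defs
import Cfsg.Agent.Lib.Helper37.B2Iso.RMatch
import Cfsg.Agent.Lib.Helper37.B2Iso.GComm
import Cfsg.Agent.Lib.Helper66.B2IsoGSiegel
import Cfsg.Agent.Lib.Helper13.B2IsoGMem
import Cfsg.Agent.Lib.Helper93.B2IsoRHom
import Cfsg.Agent.Lib.Helper93.B2IsoRKer2
import Cfsg.Agent.Lib.Helper33.B2IsoRKer1
import Cfsg.Agent.Lib.Helper36.B2IsoGFinal

set_option autoImplicit false

/-!
# B2ISO-[ASM]: final assembly, `chevB2.group F ≃* PΩ₅(F)`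
-/

namespace Cfsg.Agent.Lib.Helper37.B2Iso

open Matrix Cfsg.Lie
open Cfsg.Agent.Lib.Helper13.B2Iso (mem_OG_iff exists_rootO rootO_mem_E0 OG_ext)
open Cfsg.Agent.Lib.Helper93.B2Iso (rhoM_one rhoM_mul scalar_of_rhoM_eq_one rhoM_scalar)
open Cfsg.Agent.Lib.Helper33.B2Iso (scalar_of_commute)
open Cfsg.Agent.Lib.Helper66.B2Iso (Qr_eV_zI Qr_smul)

/-- `Ω₅(F) = E0` ([G-ASM]): helper36's `commutator_eq_E0_of'` with [G-COMM] -/
theorem commutator_eq_E0 {F : Type*} [Field F] (hF : ∃ a : F, a ≠ 0 ∧ a ≠ 1) :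
    commutator ↥(OG F) = E0 F :=
  Cfsg.Agent.Lib.Helper36.B2Iso.commutator_eq_E0_of' (E0_le_commutator hF)

variable {F : Type*} [Field F]

theorem isIsom_coe (g : ↥(OG F)) : IsIsom ((g : GL I5 F) : Matrix I5 I5 F) :=
  (mem_OG_iff (g : GL I5 F)).1 g.2

/-- `ρ` as a monoid homomorphism into matrices -/
noncomputable def rhoHom0 (F : Type*) [Field F] :
    ↥(OG F) →* Matrix chevB2.Idx chevB2.Idx F where
  toFun g := rhoM ((g : GL I5 F) : Matrix I5 I5 F)
  map_one' := by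
    show rhoM (((1 : ↥(OG F)) : GL I5 F) : Matrix I5 I5 F) = 1
    simp [rhoM_one]
  map_mul' g h := by
    show rhoM (((g * h : ↥(OG F)) : GL I5 F) : Matrix I5 I5 F) = _
    simp only [Subgroup.coe_mul, Units.val_mul]
    exact rhoM_mul _ _ (isIsom_coe g) (isIsom_coe h)

/-- `ρ : O₅(F) → GL₁₀(F)` -/
noncomputable def rhoHom (F : Type*) [Field F] : ↥(OG F) →* GL chevB2.Idx F :=
  (rhoHom0 F).toHomUnits

theorem rhoHom_coe (g : ↥(OG F)) :
    ((rhoHom F g : GL chevB2.Idx F) : Matrix chevB2.Idx chevB2.Idx F) =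
      rhoM ((g : GL I5 F) : Matrix I5 I5 F) := rfl

/-- `ρ(E0) = chevB2.group F` -/
theorem map_E0 : (E0 F).map (rhoHom F) = chevB2.group F := by
  unfold E0 ChevalleyDatum.group
  rw [MonoidHom.map_closure]
  congr 1
  ext x
  constructor
  · rintro ⟨g, ⟨a, b, hab, t, hg⟩, rfl⟩
    obtain ⟨r, t', h⟩ := rhoM_TM_mem a b hab t
    exact ⟨r, t', by rw [rhoHom_coe, hg, h]⟩
  · rintro ⟨r, t, hx⟩
    obtain ⟨a, b, hab, t', h⟩ := xMat_mem (F := F) r t
    obtain ⟨g, hg⟩ := exists_rootO (F := F) a b hab t'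
    refine ⟨g, ⟨a, b, hab, t', hg⟩, ?_⟩
    apply Units.ext
    rw [rhoHom_coe, hg, hx, h]

/-- a scalar isometry is `± 1` -/
theorem scalar_sq (c : F) (h : IsIsom (c • (1 : Matrix I5 I5 F))) : c * c = 1 := by
  have h1 := h (eV zI)
  have h2 : (c • (1 : Matrix I5 I5 F)) *ᵥ (eV zI : I5 → F) = c • (eV zI : I5 → F) := by
    rw [Matrix.smul_mulVec, Matrix.one_mulVec]
  rw [h2, Qr_smul, Qr_eV_zI] at h1
  linear_combination h1

/-- the kernel of `ρ` on `Ω` is the centre of `Ω` -/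
theorem ker_eq_center (hF : ∃ a : F, a ≠ 0 ∧ a ≠ 1) :
    ((rhoHom F).comp (commutator ↥(OG F)).subtype).ker = Subgroup.center ↥(commutator ↥(OG F)) := by
  ext x
  rw [MonoidHom.mem_ker, Subgroup.mem_center_iff]
  constructor
  · intro hx
    have h1 : rhoM (((x : ↥(OG F)) : GL I5 F) : Matrix I5 I5 F) = 1 := by
      have := congrArg (fun u : GL chevB2.Idx F => (u : Matrix chevB2.Idx chevB2.Idx F)) hx
      simpa [rhoHom_coe] using this
    obtain ⟨c, hc⟩ := scalar_of_rhoM_eq_one _ (isIsom_coe (x : ↥(OG F))) h1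
    intro y
    apply Subtype.ext
    apply OG_ext
    simp only [Subgroup.coe_mul, Units.val_mul]
    rw [hc]
    simp
  · intro hx
    have hcomm : ∀ a b, Valid a b →
        (((x : ↥(OG F)) : GL I5 F) : Matrix I5 I5 F) * TM (eV a) (eV b) =
          TM (eV a) (eV b) * (((x : ↥(OG F)) : GL I5 F) : Matrix I5 I5 F) := by
      intro a b hab
      obtain ⟨g, hg⟩ := exists_rootO (F := F) a b hab 1
      rw [one_smul] at hg
      have hgE : g ∈ commutator ↥(OG F) := by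
        rw [commutator_eq_E0 hF]
        exact rootO_mem_E0 a b hab 1 g (by rw [one_smul]; exact hg)
      have := hx ⟨g, hgE⟩
      have h2 := congrArg (fun u : ↥(commutator ↥(OG F)) =>
        (((u : ↥(OG F)) : GL I5 F) : Matrix I5 I5 F)) this
      simp only [Subgroup.coe_mul, Units.val_mul] at h2
      rw [hg] at h2
      exact h2.symm
    obtain ⟨c, hc⟩ := scalar_of_commute _ hcomm
    have hiso := isIsom_coe (x : ↥(OG F))
    rw [hc] at hiso
    have hcc := scalar_sq c hiso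
    apply Units.ext
    show ((rhoHom F (x : ↥(OG F)) : GL chevB2.Idx F) : Matrix chevB2.Idx chevB2.Idx F) = 1
    rw [rhoHom_coe, hc, rhoM_scalar c hcc]

theorem range_eq (hF : ∃ a : F, a ≠ 0 ∧ a ≠ 1) :
    ((rhoHom F).comp (commutator ↥(OG F)).subtype).range = chevB2.group F := by
  rw [MonoidHom.range_comp, Subgroup.range_subtype, commutator_eq_E0 hF, map_E0]

/-- **S1083**: `B₂(F) ≅ PΩ₅(F)` for every field with more than two elements. -/
theorem chevB2_equiv_POmega (hF : ∃ a : F, a ≠ 0 ∧ a ≠ 1) :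
    Nonempty (↥(chevB2.group F) ≃* Cfsg.POmega F (Cfsg.quadFormOdd 2 F)) := by
  let f := (rhoHom F).comp (commutator ↥(OG F)).subtype
  have e1 : (↥(commutator ↥(OG F)) ⧸ f.ker) ≃* ↥f.range := QuotientGroup.quotientKerEquivRange f
  have e2 : ↥f.range ≃* ↥(chevB2.group F) := MulEquiv.subgroupCongr (range_eq hF)
  have e3 : (↥(commutator ↥(OG F)) ⧸ Subgroup.center ↥(commutator ↥(OG F))) ≃*
      (↥(commutator ↥(OG F)) ⧸ f.ker) :=
    QuotientGroup.quotientMulEquivOfEq (ker_eq_center hF).symm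
  exact ⟨((e3.trans e1).trans e2).symm⟩

end Cfsg.Agent.Lib.Helper37.B2Iso
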